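import Mathlib.Algebra.Homology.DerivedCategory.ExactFunctor
import Mathlib.Algebra.Homology.DerivedCategory.HomologySequence
import Mathlib.Algebra.Homology.ShortComplex.ExactFunctor
import Mathlib.CategoryTheory.Localization.Adjunction
import Mathlib.Algebra.Homology.ShortComplex.PreservesHomology
import Mathlib.CategoryTheory.Adjunction.FullyFaithful

/-! # Exact adjoint pairs on derived categories -/

noncomputable section

set_option autoImplicit false
set_option backward.isDefEq.respectTransparency false
set_option backward.defeqAttrib.useBackward true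

universe w w' v u v' u'

open CategoryTheory CategoryTheory.Limits

namespace Groth.Agent.DerExactAdj

variable {A : Type u} [Category.{v} A] [Abelian A] [HasDerivedCategory.{w} A]
  {B : Type u'} [Category.{v'} B] [Abelian B] [HasDerivedCategory.{w'} B]
  {L : A ⥤ B} {R : B ⥤ A}
  [L.Additive] [PreservesFiniteLimits L] [PreservesFiniteColimits L]
  [R.Additive] [PreservesFiniteLimits R] [PreservesFiniteColimits R]

omit [HasDerivedCategory.{w} A] [HasDerivedCategory.{w'} B] [PreservesFiniteLimits L] [PreservesFiniteColimits L]
  [PreservesFiniteLimits R] [PreservesFiniteColimits R] in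
/-- the adjunction on complexes -/
def adjCx (adj : L ⊣ R) :
    L.mapHomologicalComplex (ComplexShape.up ℤ) ⊣ R.mapHomologicalComplex (ComplexShape.up ℤ) where
  unit :=
    { app := fun K => { f := fun i => adj.unit.app (K.X i), comm' := fun i j _ => adj.unit_naturality (K.d i j) }
      naturality := fun K K' f => by ext i; exact adj.unit.naturality (f.f i) }
  counit :=
    { app := fun M => { f := fun i => adj.counit.app (M.X i), comm' := fun i j _ => (adj.counit_naturality (M.d i j)).symm }
      naturality := fun K K' f => by ext i; exact adj.counit.naturality (f.f i) }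
  left_triangle_components K := by ext i; exact adj.left_triangle_components (K.X i)
  right_triangle_components K := by ext i; exact adj.right_triangle_components (K.X i)

/-- the adjunction on derived categories -/
def derAdj (adj : L ⊣ R) : L.mapDerivedCategory ⊣ R.mapDerivedCategory :=
  letI : CatCommSq (L.mapHomologicalComplex (ComplexShape.up ℤ)) DerivedCategory.Q DerivedCategory.Q
    L.mapDerivedCategory := ⟨L.mapDerivedCategoryFactors.symm⟩
  letI : CatCommSq (R.mapHomologicalComplex (ComplexShape.up ℤ)) DerivedCategory.Q DerivedCategory.Q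
    R.mapDerivedCategory := ⟨R.mapDerivedCategoryFactors.symm⟩
  (adjCx adj).localization DerivedCategory.Q (HomologicalComplex.quasiIso A (ComplexShape.up ℤ))
    DerivedCategory.Q (HomologicalComplex.quasiIso B (ComplexShape.up ℤ)) _ _

theorem isIso_counit (adj : L ⊣ R) (h : ∀ X, IsIso (adj.counit.app X)) (K : DerivedCategory B) :
    IsIso ((derAdj adj).counit.app K) := by
  obtain ⟨C, ⟨e⟩⟩ := Localization.essSurj DerivedCategory.Q (HomologicalComplex.quasiIso B (ComplexShape.up ℤ)) |>.mem_essImage K
  refine (NatTrans.isIso_app_iff_of_iso (derAdj adj).counit e).1 ?_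
  have : ∀ i, IsIso (((adjCx adj).counit.app C).f i) := fun i => h (C.X i)
  have : IsIso ((adjCx adj).counit.app C) := HomologicalComplex.Hom.isIso_of_components _
  rw [derAdj, Adjunction.localization_counit_app]
  infer_instance

theorem full_faithful (adj : L ⊣ R) (h : ∀ X, IsIso (adj.counit.app X)) :
    R.mapDerivedCategory.Full ∧ R.mapDerivedCategory.Faithful := by
  have : ∀ K, IsIso ((derAdj adj).counit.app K) := isIso_counit adj h
  have : IsIso (derAdj adj).counit := NatIso.isIso_of_isIso_app _
  exact ⟨(derAdj adj).fullyFaithfulROfIsIsoCounit.full, (derAdj adj).fullyFaithfulROfIsIsoCounit.faithful⟩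

theorem isIso_unit_iff (adj : L ⊣ R) (C : CochainComplex A ℤ) :
    IsIso ((derAdj adj).unit.app (DerivedCategory.Q.obj C)) ↔ ∀ n, IsIso (adj.unit.app (C.homology n)) := by
  rw [derAdj, Adjunction.localization_unit_app, isIso_comp_right_iff, DerivedCategory.isIso_Q_map_iff_quasiIso,
    quasiIso_iff]
  refine forall_congr' fun n => ?_
  rw [quasiIsoAt_iff_isIso_homologyMap]
  haveI : (L ⋙ R).Additive := inferInstance
  haveI : PreservesFiniteLimits (L ⋙ R) := comp_preservesFiniteLimits L R
  haveI : PreservesFiniteColimits (L ⋙ R) := comp_preservesFiniteColimits L R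
  haveI : (L ⋙ R).PreservesHomology := inferInstance
  have key : IsIso (ShortComplex.homologyMap ((C.sc n).mapNatTrans adj.unit)) ↔
      IsIso (adj.unit.app ((C.sc n).homology)) := by
    rw [ShortComplex.homologyMap_mapNatTrans, isIso_comp_left_iff, isIso_comp_right_iff]
  exact key

theorem essImage_iff (adj : L ⊣ R) (h : ∀ X, IsIso (adj.counit.app X)) (K : DerivedCategory A) :
    R.mapDerivedCategory.essImage K ↔
      ∀ n, IsIso (adj.unit.app ((DerivedCategory.homologyFunctor A n).obj K)) := by
  haveI := (full_faithful adj h).1
  haveI := (full_faithful adj h).2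
  obtain ⟨C, ⟨e⟩⟩ := Localization.essSurj DerivedCategory.Q (HomologicalComplex.quasiIso A (ComplexShape.up ℤ)) |>.mem_essImage K
  rw [← (derAdj adj).isIso_unit_app_iff_mem_essImage, ← NatTrans.isIso_app_iff_of_iso (derAdj adj).unit e, isIso_unit_iff]
  refine forall_congr' fun n => NatTrans.isIso_app_iff_of_iso adj.unit ?_
  exact ((DerivedCategory.homologyFunctorFactors A n).app C).symm ≪≫ (DerivedCategory.homologyFunctor A n).mapIso e

end Groth.Agent.DerExactAdj
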